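import Cfsg.Agent.PermutationGroups.MultFree
import Cfsg.Agent.Characters.Linear
import Cfsg.Agent.Characters.DegreeBounds

/-!
# The index of a subgroup and the least degree (helper349)

`index_deg` : if every irreducible complex representation of degree at least 2 of the nonabelian simple group `G` has
degree at least `δ`, then proper subgroups have index at least `δ + 1`, and if the index `n` is at most `2 δ`, then
`n - 1` divides the order of `G`.
-/

set_option autoImplicit false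

namespace Cfsg.Agent.H349.KD4

open Cfsg MulAction

theorem index_deg {G : Type*} [Group G] [Finite G] [IsSimpleGroup G] (hna : ∃ x y : G, x * y ≠ y * x) {δ : ℕ}
    (hδ : ∀ (k : ℕ) (ρ : Representation ℂ G (Fin k → ℂ)), ρ.IsIrreducible → 2 ≤ k → δ ≤ k)
    {X : Subgroup G} (hX : X ≠ ⊤) : δ + 1 ≤ X.index ∧ (X.index ≤ 2 * δ → X.index - 1 ∣ Nat.card G) := by
  classical
  have : Fintype G := Fintype.ofFinite G
  have : Fintype (G ⧸ X) := Fintype.ofFinite _
  obtain ⟨m, -, hm1, -, hm⟩ := PermutationGroups.MultFree.exists_decomp (G := G) (Ω := G ⧸ X) ((1 : G) : G ⧸ X)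
  -- homomorphisms to commutative groups
  have hhom : ∀ f : G →* ℂˣ, f = 1 := by
    intro f
    rcases (MonoidHom.normal_ker f).eq_bot_or_eq_top with h | h
    · exfalso
      obtain ⟨a, b, hab⟩ := hna
      apply hab
      apply (MonoidHom.ker_eq_bot_iff f).1 h
      rw [map_mul, map_mul, mul_comm]
    · ext x
      have : x ∈ f.ker := h ▸ Subgroup.mem_top x
      rw [(MonoidHom.mem_ker).1 this]
      rfl
  let ψ₀ : IrrCharacter G := ⟨_, PermutationGroups.MultFree.isIrr_one⟩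
  -- degrees
  have hnat : ∀ ψ : IrrCharacter G, ∃ n : ℕ, (ψ : G → ℂ) 1 = (n : ℂ) ∧ (ψ ≠ ψ₀ → δ ≤ n ∧ 1 ≤ n ∧ n ∣ Nat.card G) := by
    intro ψ
    obtain ⟨n, ρ, hρ, hn⟩ := ψ.2
    have hn1 : (ψ : G → ℂ) 1 = (n : ℂ) := by
      rw [← hn, Representation.char_one]; simp
    refine ⟨n, hn1, fun hne => ?_⟩
    have h0 : n ≠ 0 := by
      rintro rfl
      have h2 : Nontrivial (Subrepresentation ρ) := hρ.1
      obtain ⟨a, b, hab⟩ := h2.exists_pair_ne
      apply hab
      have h3 : Subsingleton (Submodule ℂ (Fin 0 → ℂ)) := inferInstance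
      exact Subrepresentation.toSubmodule_injective (Subsingleton.elim _ _)
    have h1 : n ≠ 1 := by
      rintro rfl
      apply hne
      obtain ⟨f, hf⟩ := Characters.Linear.exists_hom_of_isIrrCharacter ψ.2 (by rw [hn1, Nat.cast_one])
      rw [hhom f] at hf
      apply Subtype.ext
      rw [hf]
      rfl
    refine ⟨hδ n ρ hρ (by omega), by omega, ?_⟩
    have h2 := Characters.DegreeBounds.finrank_dvd_card ρ
    rwa [Module.finrank_fin_fun] at h2
  choose d hd hd' using hnat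
  have hmem : ψ₀ ∈ m.support := by
    rw [Finsupp.mem_support_iff]
    show m ⟨_, PermutationGroups.MultFree.isIrr_one⟩ ≠ 0
    rw [hm1]; exact one_ne_zero
  have hd0 : d ψ₀ = 1 := by
    have h1 := hd ψ₀
    have h2 : (ψ₀ : G → ℂ) 1 = 1 := rfl
    rw [h2] at h1
    exact_mod_cast h1.symm
  have hsum : X.index = 1 + ∑ ψ ∈ m.support.erase ψ₀, m ψ * d ψ := by
    apply Nat.cast_injective (R := ℂ)
    have h1 : ((X.index : ℕ) : ℂ) = (Nat.card (G ⧸ X) : ℂ) := rfl
    rw [h1, hm, ← Finset.add_sum_erase _ _ hmem, hd ψ₀, hd0]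
    have h2 : m ψ₀ = 1 := hm1
    rw [h2]
    push_cast
    rw [one_mul]
    congr 1
    exact Finset.sum_congr rfl fun ψ _ => by rw [hd ψ]
  have hidx : X.index ≠ 1 := fun h => hX (Subgroup.index_eq_one.1 h)
  have hne : (m.support.erase ψ₀).Nonempty := by
    rw [Finset.nonempty_iff_ne_empty]
    intro h
    rw [h, Finset.sum_empty] at hsum
    exact hidx hsum
  obtain ⟨ψ₁, hψ₁⟩ := hne
  have hterm : ∀ ψ ∈ m.support.erase ψ₀, 1 ≤ m ψ ∧ δ ≤ d ψ ∧ 1 ≤ d ψ ∧ d ψ ∣ Nat.card G := by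
    intro ψ hψ
    rw [Finset.mem_erase, Finsupp.mem_support_iff] at hψ
    exact ⟨Nat.one_le_iff_ne_zero.2 hψ.2, hd' ψ hψ.1⟩
  obtain ⟨h1, h2, h3, h4⟩ := hterm ψ₁ hψ₁
  rw [← Finset.add_sum_erase _ _ hψ₁] at hsum
  have h5 : δ ≤ m ψ₁ * d ψ₁ := h2.trans (Nat.le_mul_of_pos_left _ h1)
  refine ⟨by omega, fun hle => ?_⟩
  have h6 : ∑ ψ ∈ (m.support.erase ψ₀).erase ψ₁, m ψ * d ψ = 0 := by
    by_contra hne0
    obtain ⟨ψ₂, hψ₂, -⟩ := Finset.exists_ne_zero_of_sum_ne_zero hne0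
    obtain ⟨g1, g2, -, -⟩ := hterm ψ₂ (Finset.mem_of_mem_erase hψ₂)
    have g3 : δ ≤ m ψ₂ * d ψ₂ := g2.trans (Nat.le_mul_of_pos_left _ g1)
    have g4 : m ψ₂ * d ψ₂ ≤ ∑ ψ ∈ (m.support.erase ψ₀).erase ψ₁, m ψ * d ψ :=
      Finset.single_le_sum (f := fun ψ => m ψ * d ψ) (fun _ _ => Nat.zero_le _) hψ₂
    omega
  rw [h6, add_zero] at hsum
  have h7 : m ψ₁ = 1 := by
    by_contra hm2
    have h8 : 2 * d ψ₁ ≤ m ψ₁ * d ψ₁ := Nat.mul_le_mul_right _ (by omega)
    omega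
  rw [h7, one_mul] at hsum
  rw [hsum, Nat.add_sub_cancel_left]
  exact h4

end Cfsg.Agent.H349.KD4
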