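import Cfsg.Agent.H349.KD4.Main
import Cfsg.Agent.H349.KD4.Deg
import Cfsg.Agent.H56.Exc.Fac
import Cfsg.Agent.S2342

/-!
# `³D₄(q)` has no factorisation with a solvable factor (helper349)

* `no_small_index` : the index of a proper subgroup of `³D₄(q)` does not divide `4 (q^4 - q^2 + 1)`;
* `solv_dvd` : a solvable subgroup whose order is divisible by a primitive prime divisor of `q^12 - 1` has order dividing
  `4 (q^4 - q^2 + 1)`;
* `noFac_TD4`.
-/

set_option autoImplicit false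

namespace Cfsg.Agent.H349.KD4

open Cfsg Cfsg.Agent.OrdDiv Cfsg.Agent.H436 Cfsg.Agent.H902 Cfsg.Agent.H902.Names Cfsg.Agent.H915.GN
  Cfsg.Agent.H290.ElReg Cfsg.Agent.H264.FKS Cfsg.Agent.H563.KG Cfsg.Agent.H56.Exc Cfsg.Lie

theorem num_small {q n C : ℕ} (hq : 2 ≤ q) (h1 : q * (q ^ 4 - q ^ 2 + 1) + 1 ≤ n) (h : n ∣ 4 * (q ^ 4 - q ^ 2 + 1))
    (h2 : n ≤ 2 * (q * (q ^ 4 - q ^ 2 + 1)) → n - 1 ∣ C)
    (hC : C = q ^ 12 * (q ^ 2 - 1) * (q ^ 6 - 1) * (q ^ 8 + q ^ 4 + 1)) : False := by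
  have hpos : 0 < q ^ 4 - q ^ 2 + 1 := Nat.succ_pos _
  have h3 : n ≤ 4 * (q ^ 4 - q ^ 2 + 1) := Nat.le_of_dvd (by omega) h
  have h4 : q < 4 := by
    by_contra hcon
    have h5 : 4 * (q ^ 4 - q ^ 2 + 1) ≤ q * (q ^ 4 - q ^ 2 + 1) := Nat.mul_le_mul_right _ (by omega)
    omega
  obtain ⟨k, hk⟩ := h
  have h5 : q = 2 ∨ q = 3 := by omega
  rcases h5 with rfl | rfl
  · norm_num at h1 hk h2
    have hk1 : k = 1 := by
      have : 0 < k := by
        rcases Nat.eq_zero_or_pos k with rfl | h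
        · omega
        · exact h
      by_contra hne
      have h6 : n * 2 ≤ n * k := Nat.mul_le_mul_left _ (by omega)
      omega
    subst hk1
    have hn : n = 52 := by omega
    subst hn
    have h7 := h2 (by norm_num)
    rw [hC] at h7
    revert h7
    norm_num
  · norm_num at h1 hk h2
    have hk1 : k = 1 := by
      have : 0 < k := by
        rcases Nat.eq_zero_or_pos k with rfl | h
        · omega
        · exact h
      by_contra hne
      have h6 : n * 2 ≤ n * k := Nat.mul_le_mul_left _ (by omega)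
      omega
    subst hk1
    have hn : n = 292 := by omega
    subst hn
    have h7 := h2 (by norm_num)
    rw [hC] at h7
    revert h7
    norm_num

variable {p f : ℕ} {K : Type} [Field K] [Fintype K]

/-- **No subgroup of small index.** -/
theorem no_small_index (hp : p.Prime) (hf : 1 ≤ f) (hK : Fintype.card K = (p ^ f) ^ 3)
    {X : Subgroup ↥(twistedD4 K (p ^ f))} (hX : X ≠ ⊤) (h : X.index ∣ 4 * ncl 12 (p ^ f)) : False := by
  have hq : 2 ≤ p ^ f := hp.two_le.trans (Nat.le_self_pow (by omega) p)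
  have hpp : IsPrimePow (p ^ f) := hp.isPrimePow.pow (by omega)
  obtain ⟨hs, hna⟩ := Cfsg.Agent.S1071.result hpp hK
  have hna' : ∃ x y : ↥(twistedD4 K (p ^ f)), x * y ≠ y * x := by
    by_contra hcon
    push Not at hcon
    exact hna ⟨⟨hcon⟩⟩
  obtain ⟨h1, h2⟩ := index_deg hna' (Cfsg.Agent.S2342.result (p ^ f) hpp hK) hX
  rw [ncl12] at h
  exact num_small hq h1 h h2 (Cfsg.Agent.S1067.result hpp hK)

/-- **Solvable subgroups containing a primitive prime divisor of `q^12 - 1`.** -/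
theorem solv_dvd (hE : CycFixSolv.{0}) (hp : p.Prime) (hf : 1 ≤ f) (hK : Fintype.card K = (p ^ f) ^ 3)
    (H : Subgroup ↥(twistedD4 K (p ^ f))) (hH : Group.IsSolvable H) {r₀ : ℕ} (hr₀ : Prim (p ^ f) 12 r₀)
    (hrH : r₀ ∣ Nat.card H) : Nat.card H ∣ 4 * ncl 12 (p ^ f) := by
  have hq : 2 ≤ p ^ f := hp.two_le.trans (Nat.le_self_pow (by omega) p)
  have hpp : IsPrimePow (p ^ f) := hp.isPrimePow.pow (by omega)
  have : Fact p.Prime := ⟨hp⟩
  have : CharP K p := charP_of_pow (a := f * 3) hp (by rw [hK, ← pow_mul])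
  by_contra hsep
  have hbig : ∀ r, Prim (p ^ f) 12 r → Big ↥(twistedD4 K (p ^ f)) r (ncl 12 (p ^ f)) 4 := fun r hr =>
    big_TD4_12 hpp hK (cast_ncl (by omega)) hr
  -- the natural module
  obtain ⟨ψ, hψ⟩ := Cfsg.Agent.H392.TD.exists_nat hpp hK
  let τ : ↥(twistedD4 K (p ^ f)) →* Matrix.GeneralLinearGroup (Fin 4 ⊕ Fin 4) K :=
    (isometryGroup K (quadFormPlus 4 K)).subtype.comp ψ
  have hτ : Function.Injective τ := (Subgroup.subtype_injective _).comp hψ
  have hr12 : 12 ∣ r₀ - 1 := Nat.dvd_of_mod_eq_zero (mod_of_prim hq (by omega) hr₀)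
  have hr13 : 13 ≤ r₀ := by
    have h1 := hr₀.prime.two_le
    have h2 := Nat.le_of_dvd (by omega) hr12
    omega
  -- reduced
  have hfree : ∀ t : ℕ, t.Prime → ¬ Prim (p ^ f) 12 t → Free ↥(twistedD4 K (p ^ f)) t r₀ := by
    intro t ht hnt x hx hxm a hat hc
    have hx0 : orderOf x = r₀ := (Nat.prime_dvd_prime_iff_eq hx hr₀.prime).1 hxm
    have h2 := (hbig _ hr₀).card x hx0
    have h3 : a ∈ Subgroup.centralizer ({x} : Set ↥(twistedD4 K (p ^ f))) := by
      rw [Subgroup.mem_centralizer_singleton_iff]; exact hc.symm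
    have h4 : orderOf a ∣ ncl 12 (p ^ f) := by
      refine dvd_trans ?_ h2
      rw [← Subgroup.orderOf_mk a h3]
      exact orderOf_dvd_natCard _
    have h5 : orderOf a ∣ t := orderOf_dvd_of_pow_eq_one hat
    rcases (Nat.dvd_prime ht).1 h5 with h6 | h6
    · exact orderOf_eq_one_iff.1 h6
    · exact absurd (prim_of_dvd cls12 (by omega) ht (h6 ▸ h4)) hnt
  let C : ℕ → ℕ → ℕ → Prop := fun r m e => Prim (p ^ f) 12 r ∧ r ∣ Nat.card H ∧ m = ncl 12 (p ^ f) ∧ e = 4
  have hC : ∀ r, Pr C r ↔ Prim (p ^ f) 12 r ∧ r ∣ Nat.card H := fun r =>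
    ⟨fun ⟨_, _, h⟩ => ⟨h.1, h.2.1⟩, fun h => ⟨_, _, h.1, h.2, rfl, rfl⟩⟩
  have hred : Red H (Pr C) := by
    refine red_of hE (p := p) (τ := τ.comp H.subtype) (hτ.comp H.subtype_injective)
      (pcore_of_piso ((Cfsg.Agent.H325.IsoExc.piso_twD4 hpp hK hr₀).sub H) hrH) ((hC _).2 ⟨hr₀, hrH⟩) hr₀.prime hrH
      ((hbig _ hr₀).subgroup H).cyc ?_
    intro t ht _ hnt htH
    refine ⟨r₀, hrH, (hfree t ht fun h => hnt ((hC _).2 ⟨h, htH⟩)).subgroup H, Or.inl ?_⟩
    have h1 : Fintype.card (Fin 4 ⊕ Fin 4) = 8 := by decide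
    rw [h1]
    omega
  have hfam : RFam H C := by
    refine ⟨?_, ?_, ?_⟩
    · rintro r m e ⟨hr, -, rfl, rfl⟩
      exact (hbig r hr).subgroup H
    · rintro r m e ⟨-, hr, -, -⟩
      exact hr
    · rintro r m e ⟨-, -, rfl, rfl⟩
      exact hsep
  have h2 : (⊤ : Subgroup H) = ⊥ := hfam.eq_bot_of_solvable hred inferInstance inferInstance
  have h4 : Nat.card H = 1 := by
    rw [← Subgroup.card_top, h2, Subgroup.card_bot]
  rw [h4] at hrH
  exact hr₀.prime.one_lt.ne' (Nat.dvd_one.1 hrH)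

/-- **`³D₄(q)` has no factorisation with a solvable factor.** -/
theorem noFac_TD4 (tb : OrderTable.{0}) (hkn : ∀ (S : Type) [Group S] [Finite S], IsSimpleGroup S → IsKnownSimple' S)
    (hE : CycFixSolv.{0}) (hp : p.Prime) (hf : 1 ≤ f) (hK : Fintype.card K = (p ^ f) ^ 3) :
    NoFac ↥(twistedD4 K (p ^ f)) := by
  have hq : 2 ≤ p ^ f := hp.two_le.trans (Nat.le_self_pow (by omega) p)
  have hpp : IsPrimePow (p ^ f) := hp.isPrimePow.pow (by omega)
  refine noFac_of fun H M hH hM hd => ?_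
  by_cases hex : ∃ r, Prim (p ^ f) 12 r ∧ r ∣ Nat.card H
  · obtain ⟨r, hr, hrH⟩ := hex
    exact no_small_index hp hf hK hM (hd.trans (solv_dvd hE hp hf hK H hH hr hrH))
  · push Not at hex
    rcases kfull_TD4 tb hkn hE hp hf hK M (fun r hr hrM => hex r hr (hrM.trans hd)) with h1 | h1
    · exact hM h1
    · rw [m_eq hq] at h1
      have hHt : H ≠ ⊤ := by
        rintro rfl
        obtain ⟨hs, hna⟩ := Cfsg.Agent.S1071.result hpp hK
        have : Group.IsSolvable ↥(twistedD4 K (p ^ f)) := by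
          exact Group.isSolvable_of_surjective (f := (Subgroup.topEquiv (G := ↥(twistedD4 K (p ^ f)))).toMonoidHom)
            (Subgroup.topEquiv).surjective
        exact hna ⟨⟨(IsSimpleGroup.comm_iff_isSolvable).2 this⟩⟩
      refine no_small_index hp hf hK hHt (dvd_trans ?_ h1)
      obtain ⟨t, ht⟩ := hd
      have h2 := Subgroup.card_mul_index H
      rw [← Subgroup.card_mul_index M, ht] at h2
      have h3 : M.index * (t * H.index) = M.index * Nat.card M := by
        rw [← mul_assoc, h2, mul_comm]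
      have h4 := Nat.eq_of_mul_eq_mul_left (Nat.pos_of_ne_zero Subgroup.index_ne_zero_of_finite) h3
      exact Dvd.intro_left t h4

end Cfsg.Agent.H349.KD4
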