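import Cfsg.Agent.H349.KD4.Num
import Cfsg.Agent.H563.KG.Elim
import Cfsg.Agent.H563.KG.RedW
import Cfsg.Agent.H56.Exc.Full
import Cfsg.Agent.H56.Exc.ToriAll
import Cfsg.Agent.H325.Same.ExcTw
import Cfsg.Agent.H325.IsoExc
import Cfsg.Agent.H392.TD.Nat8

/-!
# Subgroups of `³D₄(q)` containing the torus of class 12 (helper349)

`kfull_TD4`: a subgroup `M` of `³D₄(q)`, whose index is prime to the primitive prime divisors of `q^12 - 1`, is `⊤` or
has order dividing `4 (q^4 - q^2 + 1)`.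
-/

set_option autoImplicit false

namespace Cfsg.Agent.H349.KD4

open Cfsg Cfsg.Agent.OrdDiv Cfsg.Agent.H436 Cfsg.Agent.H902 Cfsg.Agent.H902.Names Cfsg.Agent.H915.GN
  Cfsg.Agent.H290.ElReg Cfsg.Agent.H264.FKS Cfsg.Agent.H563.KG Cfsg.Agent.H56.Exc Cfsg.Lie

variable {p f : ℕ}

theorem ncl_two : ncl 12 (2 : ℕ) = 13 := by decide +kernel

theorem ncl_gt_eight {q : ℕ} (hq : 2 ≤ q) : 8 < ncl 12 q := by
  rw [ncl12]
  have h1 : 2 ^ 2 ≤ q ^ 2 := Nat.pow_le_pow_left hq 2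
  have h2 : q ^ 4 = q ^ 2 * q ^ 2 := by ring
  have h3 : 4 * q ^ 2 ≤ q ^ 4 := by rw [h2]; exact Nat.mul_le_mul_right _ h1
  omega

theorem cast_ncl {q : ℕ} (hq : 1 ≤ q) : ((ncl 12 q : ℕ) : ℤ) = 1 - (q : ℤ) ^ 2 + (q : ℤ) ^ 4 := by
  rw [ncl12, Nat.cast_add, Nat.cast_sub (Nat.pow_le_pow_right hq (by norm_num))]
  push_cast
  ring

theorem m_eq {q : ℕ} (hq : 2 ≤ q) : m_TD4_12 q = ncl 12 q := by
  have h1 := cast_m_TD4_12 hq
  rw [← cast_ncl (by omega)] at h1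
  exact_mod_cast h1

/-- **The identification of the simple group.** -/
theorem ident (tb : OrderTable.{0}) (hp : p.Prime) (hf : 1 ≤ f) {F : Type} [Field F] [CharP F p] {S : Type} [Group S]
    [Finite S] [IsSimpleGroup S] (hna : ¬ IsMulCommutative S) (hK : IsKnownSimple' S) (hrep : Fth 8 F S)
    (hbig : ∀ r, Prim (p ^ f) 12 r → Big S r (ncl 12 (p ^ f)) 4 ∧ r ∣ Nat.card S)
    (hcls : ncl 12 (p ^ f) ∣ Nat.card S) (hd : Nat.card S ∣ num (.td4 (p ^ f))) :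
    Nat.card S = num (.td4 (p ^ f)) := by
  have hna' : ¬ ∀ a b : S, a * b = b * a := fun h => hna ⟨⟨h⟩⟩
  have hq : 2 ≤ p ^ f := hp.two_le.trans (Nat.le_self_pow (by omega) p)
  obtain ⟨r, hr⟩ := exists_prim hq (show 3 ≤ 12 by omega) (by omega)
  obtain ⟨hbr, hrS⟩ := hbig r hr
  have hr12 : 12 ∣ r - 1 := Nat.dvd_of_mod_eq_zero (mod_of_prim hq (by omega) hr)
  have hr13 : 13 ≤ r := by
    have h1 := hr.prime.two_le
    have h2 := Nat.le_of_dvd (by omega) hr12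
    omega
  obtain ⟨g, hgS⟩ := exists_named tb hK hna'
  rcases Cfsg.Agent.H192.Singer.cases_name hgS.cond with ⟨m, rfl⟩ | hsp | ⟨l, hl, hch⟩
  · exfalso
    obtain ⟨Φ⟩ : Nonempty (S ≃* alternatingGroup (Fin m)) := hgS.real
    exact not_alt hbr hrS (by omega) Φ
  · exfalso
    have h1 := Cfsg.Agent.H192.Singer.spor_mem hsp
    have h2 : Nat.card S = ordN g := hgS.ord
    exact no_spor h1 hp hf (by rw [← h2]; exact hcls) (by rw [← h2]; exact hd)
  · by_cases hpl : p = l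
    · subst hpl
      have h1 := Cfsg.Agent.H325.Same.charp_td4 hp hf hgS.cond hch hgS.eq hd (fun s hs _ => (hbig s hs).2)
      subst h1
      have h2 := hgS.eq
      rw [show den (.td4 (p ^ f)) = 1 from rfl, one_mul] at h2
      exact h2
    · exfalso
      obtain ⟨X, f₁, h1, h2, -⟩ := exists_lie hl hgS hch
      have hlF : (l : F) ≠ 0 := by
        intro h
        exact hpl ((Nat.prime_dvd_prime_iff_eq hp hl).1 ((CharP.cast_eq_zero_iff F p l).1 h))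
      have h3 := lb_le hna' (by norm_num) hrep h1 hgS.real h2 hlF
      obtain ⟨h4, h5⟩ := no_cross h2 h3 hp hf hpl hcls hd
      have hr2 : r ∣ ncl 12 (p ^ f) := dvd_ncl cls12 (by omega) hr
      rw [h4, ncl_two] at hr2
      obtain rfl : r = 13 := (Nat.prime_dvd_prime_iff_eq hr.prime (by norm_num)).1 hr2
      obtain ⟨a, ha, hmod⟩ := Big.mod_mem hbr (by rw [h4, ncl_two]) hrS
      apply h5
      have h6 : a ≤ 4 := Nat.le_of_dvd (by norm_num) ha
      have h7 : a = 1 ∨ a = 2 ∨ a = 4 := by interval_cases a <;> revert ha <;> decide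
      unfold Nat.ModEq at hmod
      rw [hmod]
      rcases h7 with rfl | rfl | rfl <;> decide

/-- the family -/
def B (q : ℕ) : ℕ → ℕ → ℕ → Prop := fun r m e => Prim q 12 r ∧ m = ncl 12 q ∧ e = 4

theorem prB {q r : ℕ} : Pr (B q) r ↔ Prim q 12 r :=
  ⟨fun ⟨_, _, h⟩ => h.1, fun h => ⟨_, _, h, rfl, rfl⟩⟩

variable {K : Type} [Field K] [Fintype K]

theorem card_eq (hp : p.Prime) (hf : 1 ≤ f) (hK : Fintype.card K = (p ^ f) ^ 3) :
    Nat.card ↥(twistedD4 K (p ^ f)) = num (.td4 (p ^ f)) := by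
  have h1 := Cfsg.Agent.S1067.result (hp.isPrimePow.pow (by omega)) hK
  rw [h1]
  show _ = (p ^ f) ^ 12 * _
  ring

/-- **Subgroups of `³D₄(q)` containing the torus of class 12.** -/
theorem kfull_TD4 (tb : OrderTable.{0}) (hkn : ∀ (S : Type) [Group S] [Finite S], IsSimpleGroup S → IsKnownSimple' S)
    (hE : CycFixSolv.{0}) (hp : p.Prime) (hf : 1 ≤ f) (hK : Fintype.card K = (p ^ f) ^ 3)
    (M : Subgroup ↥(twistedD4 K (p ^ f))) (hM : ∀ r, Prim (p ^ f) 12 r → ¬ r ∣ M.index) :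
    M = ⊤ ∨ Nat.card M ∣ 4 * m_TD4_12 (p ^ f) := by
  have hq : 2 ≤ p ^ f := hp.two_le.trans (Nat.le_self_pow (by omega) p)
  rw [m_eq hq]
  have hpp : IsPrimePow (p ^ f) := hp.isPrimePow.pow (by omega)
  have : Fact p.Prime := ⟨hp⟩
  have : CharP K p := charP_of_pow (a := f * 3) hp (by rw [hK, ← pow_mul])
  by_cases hsep : Nat.card M ∣ 4 * ncl 12 (p ^ f)
  · exact Or.inr hsep
  left
  have hcard := card_eq hp hf hK
  have hbig : ∀ r, Prim (p ^ f) 12 r → Big ↥(twistedD4 K (p ^ f)) r (ncl 12 (p ^ f)) 4 := fun r hr =>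
    big_TD4_12 hpp hK (cast_ncl (by omega)) hr
  have hdvdG : ncl 12 (p ^ f) ∣ Nat.card ↥(twistedD4 K (p ^ f)) := by
    rw [← Int.natCast_dvd_natCast, ord_TD4 hpp hK, cast_ncl (by omega)]
    refine ⟨((p ^ f : ℕ) : ℤ) ^ 12 * (((p ^ f : ℕ) : ℤ) ^ 2 - 1) * (((p ^ f : ℕ) : ℤ) ^ 6 - 1) *
      (((p ^ f : ℕ) : ℤ) ^ 4 + ((p ^ f : ℕ) : ℤ) ^ 2 + 1), by ring⟩
  have hcop : ∀ {n : ℕ}, (∀ r, Prim (p ^ f) 12 r → ¬ r ∣ n) → (ncl 12 (p ^ f)).Coprime n := by
    intro n hn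
    refine Nat.coprime_of_dvd fun k hk h1 h2 => ?_
    exact hn k (prim_of_dvd cls12 (by omega) hk h1) h2
  have hdvdM : ncl 12 (p ^ f) ∣ Nat.card M := by
    rw [← Subgroup.card_mul_index M] at hdvdG
    exact (hcop hM).dvd_of_dvd_mul_right hdvdG
  have hrM : ∀ r, Prim (p ^ f) 12 r → r ∣ Nat.card M := fun r hr => (dvd_ncl cls12 (by omega) hr).trans hdvdM
  obtain ⟨r₀, hr₀⟩ := exists_prim hq (show 3 ≤ 12 by omega) (by omega)
  -- the natural module
  obtain ⟨ψ, hψ⟩ := Cfsg.Agent.H392.TD.exists_nat hpp hK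
  let τ : ↥(twistedD4 K (p ^ f)) →* Matrix.GeneralLinearGroup (Fin 4 ⊕ Fin 4) K :=
    (isometryGroup K (quadFormPlus 4 K)).subtype.comp ψ
  have hτ : Function.Injective τ := (Subgroup.subtype_injective _).comp hψ
  -- reduced
  have hfree : ∀ t : ℕ, t.Prime → ¬ Prim (p ^ f) 12 t → Free ↥(twistedD4 K (p ^ f)) t (ncl 12 (p ^ f)) := by
    intro t ht hnt x hx hxm a hat hc
    have h1 : Prim (p ^ f) 12 (orderOf x) := prim_of_dvd cls12 (by omega) hx hxm
    have h2 := (hbig _ h1).card x rfl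
    have h3 : a ∈ Subgroup.centralizer ({x} : Set ↥(twistedD4 K (p ^ f))) := by
      rw [Subgroup.mem_centralizer_singleton_iff]; exact hc.symm
    have h4 : orderOf a ∣ ncl 12 (p ^ f) := by
      refine dvd_trans ?_ h2
      rw [← Subgroup.orderOf_mk a h3]
      exact orderOf_dvd_natCard _
    have h5 : orderOf a ∣ t := orderOf_dvd_of_pow_eq_one hat
    rcases (Nat.dvd_prime ht).1 h5 with h6 | h6
    · exact orderOf_eq_one_iff.1 h6
    · exact absurd (prim_of_dvd cls12 (by omega) ht (h6 ▸ h4)) hnt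
  have hred : Red M (Pr (B (p ^ f))) := by
    refine red_of hE (p := p) (τ := τ.comp M.subtype) (hτ.comp M.subtype_injective)
      (pcore_of_piso ((Cfsg.Agent.H325.IsoExc.piso_twD4 hpp hK hr₀).sub M) (hrM _ hr₀)) (prB.2 hr₀) hr₀.prime (hrM _ hr₀)
      ((hbig _ hr₀).subgroup M).cyc ?_
    intro t ht _ hnt _
    refine ⟨ncl 12 (p ^ f), hdvdM, (hfree t ht fun h => hnt (prB.2 h)).subgroup M, Or.inl ?_⟩
    have h1 : Fintype.card (Fin 4 ⊕ Fin 4) = 8 := by decide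
    rw [h1]
    exact ncl_gt_eight hq
  -- the family
  have hfam : RFam M (B (p ^ f)) := by
    refine ⟨?_, ?_, ?_⟩
    · rintro r m e ⟨hr, rfl, rfl⟩
      exact (hbig r hr).subgroup M
    · rintro r m e ⟨hr, rfl, rfl⟩
      exact hrM r hr
    · rintro r m e ⟨hr, rfl, rfl⟩
      exact hsep
  obtain ⟨S, hSn, hs, hna, hall⟩ := hfam.exists_full hE hred (r₁ := r₀) ⟨hr₀, rfl, rfl⟩
  have hall' : ∀ r, Prim (p ^ f) 12 r → Big S r (ncl 12 (p ^ f)) 4 ∧ r ∣ Nat.card S ∧ ¬ r ∣ S.index := fun r hr => by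
    obtain ⟨h1, h2, h3, -⟩ := hall r _ _ ⟨hr, rfl, rfl⟩
    exact ⟨h1, h2, h3⟩
  have hclsS : ncl 12 (p ^ f) ∣ Nat.card S := by
    rw [← Subgroup.card_mul_index S] at hdvdM
    exact (hcop fun r hr => (hall' r hr).2.2).dvd_of_dvd_mul_right hdvdM
  have hSM : Nat.card S ∣ Nat.card M := Subgroup.card_subgroup_dvd_card S
  have hMG : Nat.card M ∣ Nat.card ↥(twistedD4 K (p ^ f)) := Subgroup.card_subgroup_dvd_card M
  have hrep : Fth 8 K S := by
    have h1 : Function.Injective ((τ.comp M.subtype).comp S.subtype) :=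
      (hτ.comp M.subtype_injective).comp S.subtype_injective
    exact Fth.of h1
  have hcS := ident tb hp hf hna (hkn S hs) hrep (fun r hr => ⟨(hall' r hr).1, (hall' r hr).2.1⟩) hclsS
    (by rw [← hcard]; exact hSM.trans hMG)
  apply Subgroup.eq_top_of_card_eq
  apply Nat.dvd_antisymm hMG
  rw [hcard, ← hcS]
  exact hSM

end Cfsg.Agent.H349.KD4
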