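import Cfsg.Agent.H349.KD4.Main
import Cfsg.Agent.H349.BG.Cross
import Cfsg.Agent.H946.KZ.Core
import Cfsg.Agent.H946.KZ.SameF4
import Cfsg.Agent.H899.Cyc.CycOut

/-!
# `³D₄(q)`: subgroups without index gap (helper349)

* `charp_td4z` : helper325's `charp_td4`, only with the primes of `ord_s(p) = 12 f`;
* `kz_TD4` : subgroups whose index is prime to these primes, `f ≥ 13`;
* `card_dvd_of_not_iGap` : a proper subgroup of `³D₄(q)` without index gap has order dividing `4 (q^4 - q^2 + 1)`;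
* `dead_td4`, `row_td4` : for S3561.
-/

set_option autoImplicit false

namespace Cfsg.Agent.H349.KD4

open Cfsg Cfsg.Agent.OrdDiv Cfsg.Agent.H436 Cfsg.Agent.H902 Cfsg.Agent.H902.Names Cfsg.Agent.H915.GN Cfsg.Agent.H264.GN
  Cfsg.Agent.H290.ElReg Cfsg.Agent.H264.FKS Cfsg.Agent.H563.KG Cfsg.Agent.H56.Exc Cfsg.Lie

section same

open Cfsg.Agent.H325.Same Cfsg.Agent.H946.KZ

variable {p f c : ℕ} {g : Grp}

/-- **`³D_4(q)`, class 12.** -/
theorem charp_td4z (hp : p.Prime) (hf : 1 ≤ f) (hg : Cond g) (hch : HasChar p g)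
    (hc : den g * c = num g) (hdvd : c ∣ num (.td4 (p ^ f))) (hs : ZT p f 12 c) : g = .td4 (p ^ f) := by
  obtain ⟨f₁, hf₁, hfl, hK, hY⟩ := kd_all hp hg hch hc
  obtain ⟨i, hi, hei, hfM, h2, h1, h3, hYc⟩ := compPz hp hf hg hch hf₁ hfl hK hY (td_td4 hp hf hdvd)
    (by norm_num) (by norm_num) (by norm_num) hs hs
  have hq : 2 ≤ p ^ f := hp.two_le.trans (Nat.le_self_pow (by omega) _)
  obtain ⟨s, hs4⟩ := exists_prim (q := p ^ f) (e := 4) hq (by norm_num) (by omega)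
  obtain ⟨t, ht8⟩ := exists_prim (q := p ^ f) (e := 8) hq (by norm_num) (by omega)
  have hn : ¬ s ∣ c := fun h => not_dvd_td4 hq hs4 (Or.inl rfl) (h.trans hdvd)
  have hn8 : ¬ t ∣ c := fun h => not_dvd_td4 hq ht8 (Or.inr rfl) (h.trans hdvd)
  rcases elimP_td4_12_12 hg hch hi hei h2 h1 h3 hYc with ⟨rfl, q, rfl⟩ | ⟨rfl, q, rfl⟩ | ⟨rfl, q, rfl⟩ |
    ⟨rfl, q, rfl⟩ | ⟨rfl, q, rfl⟩ | ⟨rfl, q, rfl⟩ | ⟨rfl, q, rfl⟩ | ⟨rfl, q, rfl⟩ | ⟨rfl, q, rfl⟩
  · exfalso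
    obtain rfl : q = p ^ f₁ := hfl
    have h5 : f₁ * 2 = f * 12 := hfM
    obtain rfl : f₁ = f * 6 := by omega
    exact hn (psl2_dvd hp hf (by norm_num) (by norm_num) hs4 (by norm_num) hc)
  · exfalso
    obtain rfl : q = p ^ f₁ := hfl
    have h5 : f₁ * 3 = f * 12 := hfM
    obtain rfl : f₁ = f * 4 := by omega
    exact hn8 (mq_dvd' ht8 (by norm_num) (psl_mq le_rfl (hp.two_le.trans (Nat.le_self_pow (by omega) _)) hc))
  · exfalso
    obtain rfl : q = p ^ f₁ := hfl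
    have h5 : f₁ * (2 * 2) = f * 12 := hfM
    obtain rfl : f₁ = f * 3 := by omega
    have h6 := Cfsg.Agent.H425.Chr.prim_quot (f := 3) (by norm_num) hs4
    rw [← pow_mul] at h6
    exact hn (psp_prim (e := 4) 2 (by norm_num) (by norm_num) (by norm_num) (by norm_num) hc h6)
  · exfalso
    obtain rfl : q = p ^ f₁ := hfl
    have h5 : f₁ * 6 = f * 12 := hfM
    obtain rfl : f₁ = f * 2 := by omega
    exact hn (mq_dvd' hs4 (by norm_num) (psu_mq le_rfl hc))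
  · exfalso
    obtain rfl : q = p ^ f₁ := hfl
    have h5 : f₁ * 6 = f * 12 := hfM
    obtain rfl : f₁ = f * 2 := by omega
    have h7 : 1 * c = (p ^ (f * 2)) ^ 6 * (((p ^ (f * 2)) ^ 2 - 1) * ((p ^ (f * 2)) ^ 6 - 1)) := hc
    rw [one_mul] at h7
    refine hn (mq_dvd' hs4 (by norm_num) (k := 2) ?_)
    rw [h7]
    exact Nat.mul_dvd_mul (dvd_pow_self _ (by norm_num)) (Dvd.intro _ rfl)
  · obtain rfl : q = p ^ f₁ := hfl
    rw [same_fld (M := 12) (by norm_num) hfM]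
  · exfalso
    obtain rfl : q = p ^ f₁ := hfl
    obtain rfl := same_fld (M := 12) (by norm_num) hfM
    have h7 : 1 * c = (p ^ f₁) ^ 12 * ((p ^ f₁ - 1) * ((p ^ f₁) ^ 3 + 1) * ((p ^ f₁) ^ 4 - 1) * ((p ^ f₁) ^ 6 + 1)) := hc
    rw [one_mul] at h7
    apply hn
    rw [h7]
    exact ((((hs4.dvd dvd_rfl).mul_left _).mul_right _).mul_left _)
  · exfalso
    obtain rfl : q = p ^ f₁ := hfl
    have h5 : f₁ * 4 = f * 12 := hfM
    obtain rfl : f₁ = f * 3 := by omega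
    have h7 : 1 * c = (p ^ (f * 3)) ^ 2 * ((p ^ (f * 3) - 1) * ((p ^ (f * 3)) ^ 2 + 1)) := hc
    rw [one_mul] at h7
    apply hn
    rw [h7]
    have h8 : s ∣ (p ^ (f * 3)) ^ 2 + 1 := by
      rw [pow_mul, ← pow_mul (p ^ f)]
      exact hs4.dvd_add (by norm_num) (by norm_num)
    exact (h8.mul_left _).mul_left _
  · exfalso
    obtain rfl : q = p ^ f₁ := hfl
    have h5 : f₁ * 6 = f * 12 := hfM
    obtain rfl : f₁ = f * 2 := by omega
    have h7 : 1 * c = (p ^ (f * 2)) ^ 3 * ((p ^ (f * 2) - 1) * ((p ^ (f * 2)) ^ 3 + 1)) := hc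
    rw [one_mul] at h7
    apply hn
    rw [h7]
    have h8 : s ∣ (p ^ (f * 2)) ^ 3 + 1 := by
      rw [pow_mul, ← pow_mul (p ^ f)]
      exact hs4.dvd_add (by norm_num) (by norm_num)
    exact (h8.mul_left _).mul_left _


end same

theorem bnd_8 : Cfsg.Agent.H946.KZ.bnd 8 73 [] = true := by decide +kernel

variable {p f : ℕ}

/-- **The identification of the simple group, large fields.** -/
theorem identz (tb : OrderTable.{0}) (hp : p.Prime) (hf : 13 ≤ f) {F : Type} [Field F] [CharP F p] {S : Type} [Group S]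
    [Finite S] [IsSimpleGroup S] (hna : ¬ IsMulCommutative S) (hK : IsKnownSimple' S) (hrep : Fth 8 F S)
    (hbig : ∀ r, Prim p (12 * f) r → Big S r (ncl 12 (p ^ f)) 4 ∧ r ∣ Nat.card S)
    (hd : Nat.card S ∣ num (.td4 (p ^ f))) :
    Nat.card S = num (.td4 (p ^ f)) := by
  have hna' : ¬ ∀ a b : S, a * b = b * a := fun h => hna ⟨⟨h⟩⟩
  obtain ⟨r, hr⟩ := Cfsg.Agent.H946.KZ.exists_zs (c := 12) hp (by omega : 4 ≤ f) (by norm_num)
  have hr156 := Cfsg.Agent.H946.KZ.lt_of_prim hp.two_le (by omega) hr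
  obtain ⟨hbr, hrS⟩ := hbig r hr
  obtain ⟨g, hgS⟩ := exists_named tb hK hna'
  rcases Cfsg.Agent.H192.Singer.cases_name hgS.cond with ⟨m, rfl⟩ | hsp | ⟨l, hl, hch⟩
  · exfalso
    obtain ⟨Φ⟩ : Nonempty (S ≃* alternatingGroup (Fin m)) := hgS.real
    exact not_alt hbr hrS (by omega) Φ
  · exfalso
    have h1 := Cfsg.Agent.H192.Singer.spor_mem hsp
    have h2 : Nat.card S = ordN g := hgS.ord
    exact Cfsg.Agent.H946.KZ.no_spor h1 hr.prime (by omega) (by rw [← h2]; exact hrS)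
  · by_cases hpl : p = l
    · subst hpl
      have h1 := charp_td4z hp (by omega) hgS.cond hch hgS.eq hd (fun s hs => (hbig s (by rwa [mul_comm])).2)
      subst h1
      have h2 := hgS.eq
      rw [show den (.td4 (p ^ f)) = 1 from rfl, one_mul] at h2
      exact h2
    · exfalso
      obtain ⟨X, f₁, h1, h2, -⟩ := exists_lie hl hgS hch
      have hlF : (l : F) ≠ 0 := by
        intro h
        exact hpl ((Nat.prime_dvd_prime_iff_eq hp hl).1 ((CharP.cast_eq_zero_iff F p l).1 h))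
      have h3 := lb_le hna' (by norm_num) hrep h1 hgS.real h2 hlF
      exact Cfsg.Agent.H946.KZ.no_cross (by norm_num) bnd_8 h2 h3 hr.prime ⟨by omega, List.not_mem_nil⟩ hrS

variable {K : Type} [Field K] [Fintype K]

/-- **Subgroups of `³D₄(q)` of index prime to the Zsigmondy primes of `p ^ (12 f) - 1`, large fields.** -/
theorem kz_TD4 (tb : OrderTable.{0}) (hkn : ∀ (S : Type) [Group S] [Finite S], IsSimpleGroup S → IsKnownSimple' S)
    (hE : CycFixSolv.{0}) (hp : p.Prime) (hf : 13 ≤ f) (hK : Fintype.card K = (p ^ f) ^ 3)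
    (M : Subgroup ↥(twistedD4 K (p ^ f))) (hM : ∀ r, Prim p (12 * f) r → ¬ r ∣ M.index) :
    M = ⊤ ∨ Nat.card M ∣ 4 * ncl 12 (p ^ f) := by
  have hq : 2 ≤ p ^ f := hp.two_le.trans (Nat.le_self_pow (by omega) p)
  have hpp : IsPrimePow (p ^ f) := hp.isPrimePow.pow (by omega)
  have : Fact p.Prime := ⟨hp⟩
  have : CharP K p := charP_of_pow (a := f * 3) hp (by rw [hK, ← pow_mul])
  by_cases hsep : Nat.card M ∣ 4 * ncl 12 (p ^ f)
  · exact Or.inr hsep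
  left
  have hbase : ∀ {r : ℕ}, Prim p (12 * f) r → Prim (p ^ f) 12 r := fun h => Cfsg.Agent.H946.KZ.prim_base (by omega) h
  have hcard := card_eq hp (by omega) hK
  have hbig : ∀ r, Prim (p ^ f) 12 r → Big ↥(twistedD4 K (p ^ f)) r (ncl 12 (p ^ f)) 4 := fun r hr =>
    big_TD4_12 hpp hK (cast_ncl (by omega)) hr
  have hdvdG : ncl 12 (p ^ f) ∣ Nat.card ↥(twistedD4 K (p ^ f)) := by
    rw [← Int.natCast_dvd_natCast, ord_TD4 hpp hK, cast_ncl (by omega)]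
    refine ⟨((p ^ f : ℕ) : ℤ) ^ 12 * (((p ^ f : ℕ) : ℤ) ^ 2 - 1) * (((p ^ f : ℕ) : ℤ) ^ 6 - 1) *
      (((p ^ f : ℕ) : ℤ) ^ 4 + ((p ^ f : ℕ) : ℤ) ^ 2 + 1), by ring⟩
  have hrM : ∀ r, Prim p (12 * f) r → r ∣ Nat.card M := fun r hr => by
    have h1 := (dvd_ncl cls12 (by omega) (hbase hr)).trans hdvdG
    rw [← Subgroup.card_mul_index M] at h1
    exact (hr.prime.dvd_mul.1 h1).resolve_right (hM r hr)
  obtain ⟨r₀, hr₀⟩ := Cfsg.Agent.H946.KZ.exists_zs (c := 12) hp (by omega : 4 ≤ f) (by norm_num)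
  have hr₀lt := Cfsg.Agent.H946.KZ.lt_of_prim hp.two_le (by omega) hr₀
  -- the natural module
  obtain ⟨ψ, hψ⟩ := Cfsg.Agent.H392.TD.exists_nat hpp hK
  let τ : ↥(twistedD4 K (p ^ f)) →* Matrix.GeneralLinearGroup (Fin 4 ⊕ Fin 4) K :=
    (isometryGroup K (quadFormPlus 4 K)).subtype.comp ψ
  have hτ : Function.Injective τ := (Subgroup.subtype_injective _).comp hψ
  -- the family
  let C : ℕ → ℕ → ℕ → Prop := fun r m e => (Prim (p ^ f) 12 r ∧ r ∣ Nat.card M) ∧ m = ncl 12 (p ^ f) ∧ e = 4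
  have hC : ∀ r, Pr C r ↔ Prim (p ^ f) 12 r ∧ r ∣ Nat.card M := fun r =>
    ⟨fun ⟨_, _, h⟩ => h.1, fun h => ⟨_, _, h, rfl, rfl⟩⟩
  have hfree : ∀ t : ℕ, t.Prime → ¬ Prim (p ^ f) 12 t → Free ↥(twistedD4 K (p ^ f)) t r₀ := by
    intro t ht hnt x hx hxm a hat hc
    have hx0 : orderOf x = r₀ := (Nat.prime_dvd_prime_iff_eq hx hr₀.prime).1 hxm
    have h2 := (hbig _ (hbase hr₀)).card x hx0
    have h3 : a ∈ Subgroup.centralizer ({x} : Set ↥(twistedD4 K (p ^ f))) := by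
      rw [Subgroup.mem_centralizer_singleton_iff]; exact hc.symm
    have h4 : orderOf a ∣ ncl 12 (p ^ f) := by
      refine dvd_trans ?_ h2
      rw [← Subgroup.orderOf_mk a h3]
      exact orderOf_dvd_natCard _
    have h5 : orderOf a ∣ t := orderOf_dvd_of_pow_eq_one hat
    rcases (Nat.dvd_prime ht).1 h5 with h6 | h6
    · exact orderOf_eq_one_iff.1 h6
    · exact absurd (prim_of_dvd cls12 (by omega) ht (h6 ▸ h4)) hnt
  have hred : Red M (Pr C) := by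
    refine red_of hE (p := p) (τ := τ.comp M.subtype) (hτ.comp M.subtype_injective)
      (pcore_of_piso ((Cfsg.Agent.H325.IsoExc.piso_twD4 hpp hK (hbase hr₀)).sub M) (hrM _ hr₀))
      ((hC _).2 ⟨hbase hr₀, hrM _ hr₀⟩) hr₀.prime (hrM _ hr₀)
      ((hbig _ (hbase hr₀)).subgroup M).cyc ?_
    intro t ht _ hnt htM
    refine ⟨r₀, hrM _ hr₀, (hfree t ht fun h => hnt ((hC _).2 ⟨h, htM⟩)).subgroup M, Or.inl ?_⟩
    have h1 : Fintype.card (Fin 4 ⊕ Fin 4) = 8 := by decide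
    rw [h1]
    omega
  have hfam : RFam M C := by
    refine ⟨?_, ?_, ?_⟩
    · rintro r m e ⟨⟨hr, -⟩, rfl, rfl⟩
      exact (hbig r hr).subgroup M
    · rintro r m e ⟨⟨-, hr⟩, -, -⟩
      exact hr
    · rintro r m e ⟨-, rfl, rfl⟩
      exact hsep
  obtain ⟨S, hSn, hs, hna, hall⟩ := hfam.exists_full hE hred (r₁ := r₀) ⟨⟨hbase hr₀, hrM _ hr₀⟩, rfl, rfl⟩
  have hSM : Nat.card S ∣ Nat.card M := Subgroup.card_subgroup_dvd_card S
  have hMG : Nat.card M ∣ Nat.card ↥(twistedD4 K (p ^ f)) := Subgroup.card_subgroup_dvd_card M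
  have hrep : Fth 8 K S := by
    have h1 : Function.Injective ((τ.comp M.subtype).comp S.subtype) :=
      (hτ.comp M.subtype_injective).comp S.subtype_injective
    exact Fth.of h1
  have hcS := identz tb hp hf hna (hkn S hs) hrep (fun r hr => by
    obtain ⟨h1, h2, -, -⟩ := hall r _ _ ⟨⟨hbase hr, hrM _ hr⟩, rfl, rfl⟩
    exact ⟨h1, h2⟩) (by rw [← hcard]; exact hSM.trans hMG)
  apply Subgroup.eq_top_of_card_eq
  apply Nat.dvd_antisymm hMG
  rw [hcard, ← hcS]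
  exact hSM

open Cfsg.Agent.H899.CG Cfsg.Agent.H57.BG

/-- **Subgroups of `³D₄(q)` without index gap.** -/
theorem card_dvd_of_not_iGap (tb : OrderTable.{0})
    (hkn : ∀ (S : Type) [Group S] [Finite S], IsSimpleGroup S → IsKnownSimple' S)
    (hE : CycFixSolv.{0}) (hp : p.Prime) (hf : 1 ≤ f) (hK : Fintype.card K = (p ^ f) ^ 3)
    {M : Subgroup ↥(twistedD4 K (p ^ f))} (hM : M ≠ ⊤) (h : ¬ Cfsg.Agent.H899.CG.IGap ↥(twistedD4 K (p ^ f)) M) :
    Nat.card M ∣ 4 * ncl 12 (p ^ f) := by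
  have hq : 2 ≤ p ^ f := hp.two_le.trans (Nat.le_self_pow (by omega) p)
  have hpp : IsPrimePow (p ^ f) := hp.isPrimePow.pow (by omega)
  obtain ⟨hs, hna⟩ := Cfsg.Agent.S1071.result hpp hK
  have hna' : ¬ ∀ x y : ↥(twistedD4 K (p ^ f)), x * y = y * x := fun h => hna ⟨⟨h⟩⟩
  have hcard := card_eq hp hf hK
  have hdvdG : ncl 12 (p ^ f) ∣ Nat.card ↥(twistedD4 K (p ^ f)) := by
    rw [← Int.natCast_dvd_natCast, ord_TD4 hpp hK, cast_ncl (by omega)]
    refine ⟨((p ^ f : ℕ) : ℤ) ^ 12 * (((p ^ f : ℕ) : ℤ) ^ 2 - 1) * (((p ^ f : ℕ) : ℤ) ^ 6 - 1) *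
      (((p ^ f : ℕ) : ℤ) ^ 4 + ((p ^ f : ℕ) : ℤ) ^ 2 + 1), by ring⟩
  have hT : IsNamed (.td4 (p ^ f)) ↥(twistedD4 K (p ^ f)) := by
    refine .mk' ⟨K, inferInstance, inferInstance, hK, ⟨MulEquiv.refl _⟩⟩ hpp ?_
    rw [show den (.td4 (p ^ f)) = 1 from rfl, one_mul]
    exact hcard
  have key : ∀ r, Prim (p ^ f) 12 r → ¬ r ∣ f → ¬ r ∣ M.index := by
    intro r hr hrf hd
    have h12 := Cfsg.Agent.H946.KZ.lt_of_prim hq (by norm_num) hr
    have hb : Big ↥(twistedD4 K (p ^ f)) r (ncl 12 (p ^ f)) 4 := big_TD4_12 hpp hK (cast_ncl (by omega)) hr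
    have hW : CycW ↥(twistedD4 K (p ^ f)) r := by
      refine ⟨hr.prime, (dvd_ncl cls12 (by omega) hr).trans hdvdG, fun x y hx hy hxy => ?_⟩
      exact mem_zpowers_of_cyclic (hb.cyc x hx) (Subgroup.mem_centralizer_singleton_iff.2 rfl)
        (Subgroup.mem_centralizer_singleton_iff.2 hxy.symm) (by rw [hx, hy])
    exact h ⟨r, cyc_of_weak hna' hp hT ⟨f, rfl⟩ (by omega)
      (show NDF (p ^ f) r from (ndf_iff hp hf).2 hrf) trivial hW, hd⟩
  by_cases hf13 : 13 ≤ f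
  · refine (kz_TD4 tb hkn hE hp hf13 hK M fun r hr => key r (Cfsg.Agent.H946.KZ.prim_base hf hr) fun hd => ?_).resolve_left
      hM
    have h1 := Cfsg.Agent.H946.KZ.lt_of_prim hp.two_le (by omega) hr
    have := Nat.le_of_dvd (by omega) hd
    omega
  · have h1 := (kfull_TD4 tb hkn hE hp hf hK M fun r hr => key r hr fun hd => ?_).resolve_left hM
    · rwa [m_eq hq] at h1
    · have h1 := Cfsg.Agent.H946.KZ.lt_of_prim hq (by norm_num) hr
      have := Nat.le_of_dvd (by omega) hd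
      omega

theorem dd_td4 {q : ℕ} {X : Art.Sh} {p f : ℕ} (h : IsLie (.td4 q) X p f) : Art.dd X (p ^ f) = 1 := by
  cases h; rfl

theorem num_dead {q f N m i o : ℕ} (hq : 2 ≤ q) (hf : f < q) (hN : N = q ^ 12 * (q ^ 2 - 1) * (q ^ 6 - 1) * (q ^ 8 + q ^ 4 + 1))
    (hm : m ≤ 4 * (q ^ 4 - q ^ 2 + 1)) (ho : o ≤ 24 * 1 * f) (hi : m * i = N) : N * o < i ^ 2 := by
  have h2 : 4 ≤ q ^ 2 := by
    calc 4 = 2 ^ 2 := by norm_num
      _ ≤ q ^ 2 := Nat.pow_le_pow_left hq 2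
  have h6 : 64 ≤ q ^ 6 := by
    calc 64 = 2 ^ 6 := by norm_num
      _ ≤ q ^ 6 := Nat.pow_le_pow_left hq 6
  have h8 : 256 ≤ q ^ 8 := by
    calc 256 = 2 ^ 8 := by norm_num
      _ ≤ q ^ 8 := Nat.pow_le_pow_left hq 8
  have h24 : q ^ 2 ≤ q ^ 4 := Nat.pow_le_pow_right (by omega) (by norm_num)
  have hm' : m ≤ 4 * q ^ 4 := hm.trans (by omega)
  have hNpos : 0 < N := by
    rw [hN]
    have a1 : 0 < q ^ 12 := by positivity
    have a2 : 0 < q ^ 2 - 1 := by omega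
    have a3 : 0 < q ^ 6 - 1 := by omega
    positivity
  have hmpos : 0 < m := by
    rcases Nat.eq_zero_or_pos m with h | h
    · rw [h, zero_mul] at hi; omega
    · exact h
  -- `m² o < N`
  have key : m ^ 2 * o < N := by
    have k1 : m ^ 2 ≤ (4 * q ^ 4) ^ 2 := Nat.pow_le_pow_left hm' 2
    have k2 : o ≤ 24 * q := ho.trans (by omega)
    have k3 : m ^ 2 * o ≤ (4 * q ^ 4) ^ 2 * (24 * q) := Nat.mul_le_mul k1 k2
    have k4 : (4 * q ^ 4) ^ 2 * (24 * q) = 384 * q ^ 9 := by ring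
    have k5 : q ^ 9 ≤ q ^ 12 := Nat.pow_le_pow_right (by omega) (by norm_num)
    have k6 : q ^ 12 * (3 * 63 * 256) ≤ N := by
      rw [hN]
      calc q ^ 12 * (3 * 63 * 256) = q ^ 12 * 3 * 63 * 256 := by ring
        _ ≤ q ^ 12 * (q ^ 2 - 1) * (q ^ 6 - 1) * (q ^ 8 + q ^ 4 + 1) :=
          Nat.mul_le_mul (Nat.mul_le_mul (Nat.mul_le_mul le_rfl (by omega)) (by omega)) (by omega)
    have k7 : 0 < q ^ 12 := by positivity
    omega
  have h9 : m ^ 2 * (N * o) < m ^ 2 * i ^ 2 := by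
    have h10 : m ^ 2 * i ^ 2 = N * N := by rw [← hi]; ring
    rw [h10]
    calc m ^ 2 * (N * o) = N * (m ^ 2 * o) := by ring
      _ < N * N := Nat.mul_lt_mul_of_pos_left key hNpos
  exact Nat.lt_of_mul_lt_mul_left h9

/-- **Proper subgroups of `³D₄(q)` are dead.** -/
theorem dead_twD4 (tb : OrderTable.{0})
    (hkn : ∀ (S : Type) [Group S] [Finite S], IsSimpleGroup S → IsKnownSimple' S)
    (hE : CycFixSolv.{0}) (hp : p.Prime) (hf : 1 ≤ f) (hK : Fintype.card K = (p ^ f) ^ 3)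
    {M : Subgroup ↥(twistedD4 K (p ^ f))} (hM : M ≠ ⊤) : Dead ↥(twistedD4 K (p ^ f)) M := by
  have hq : 2 ≤ p ^ f := hp.two_le.trans (Nat.le_self_pow (by omega) p)
  have hpp : IsPrimePow (p ^ f) := hp.isPrimePow.pow (by omega)
  obtain ⟨hs, hna⟩ := Cfsg.Agent.S1071.result hpp hK
  have hna' : ¬ ∀ x y : ↥(twistedD4 K (p ^ f)), x * y = y * x := fun h => hna ⟨⟨h⟩⟩
  have hc := center_eq_bot hna'
  by_cases h : Cfsg.Agent.H899.CG.IGap ↥(twistedD4 K (p ^ f)) M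
  · exact dead_of_iGap hc h
  have h1 := card_dvd_of_not_iGap tb hkn hE hp hf hK hM h
  have hT : IsNamed (.td4 (p ^ f)) ↥(twistedD4 K (p ^ f)) := by
    refine .mk' ⟨K, inferInstance, inferInstance, hK, ⟨MulEquiv.refl _⟩⟩ hpp ?_
    rw [show den (.td4 (p ^ f)) = 1 from rfl, one_mul]
    exact card_eq hp hf hK
  have h2 : Nat.card (Cfsg.Out ↥(twistedD4 K (p ^ f))) ≤ 24 * 1 * f :=
    Cfsg.Agent.H349.BG.out_le hna' hp hT ⟨f, rfl⟩ (fun X f' h => dd_td4 h) one_ne_zero rfl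
  refine dead_of_index hc ?_
  refine num_dead hq (Nat.lt_pow_self hp.one_lt) (Cfsg.Agent.S1067.result hpp hK) (m := Nat.card M) ?_ h2
    M.card_mul_index
  rw [← ncl12]
  exact Nat.le_of_dvd (by have := ncl_gt_eight hq; omega) h1

/-- **Row `³D₄(q)` of S3561.** -/
theorem row_td4 (tb : OrderTable.{0})
    (hkn : ∀ (S : Type) [Group S] [Finite S], IsSimpleGroup S → IsKnownSimple' S)
    (hE : CycFixSolv.{0}) {T : Type} [Group T] {q : ℕ} (hT : IsNamed (.td4 q) T) : Cfsg.Agent.H57.BG.Row T := by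
  obtain ⟨K, _, _, hK, ⟨e⟩⟩ := hT.real
  have hq : IsPrimePow q := hT.cond
  obtain ⟨p, f, hp, hf, rfl⟩ := (isPrimePow_nat_iff _).1 hq
  have h1 : Cfsg.Agent.H57.BG.Row ↥(twistedD4 K (p ^ f)) :=
    row_of_proper fun M hM => dead_twD4 tb hkn hE hp hf hK hM
  exact Row.congr e h1

end Cfsg.Agent.H349.KD4
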